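import Cfsg.Agent.Lib.InvChar.SporData.J3S51.Data

set_option autoImplicit false
set_option maxRecDepth 100000

namespace CfsgLib.InvChar.Coset.J3S51

theorem chk_facts2 : cert.chkBlocks 51 128 = true := by decide +kernel

end CfsgLib.InvChar.Coset.J3S51
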